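import Cfsg.Agent.Lib.PGroupCoprimeAction
import Cfsg.Agent.OddOrderLocal.PiCoreOf
import Mathlib.GroupTheory.FixedPointFree
import Cfsg.Agent.H545.LT.Defs_m3
import Cfsg.Agent.FastGrp
import Cfsg.Agent.Prune
set_option linter.all false

section
prune_inst 0x7f00000000000000000000000000000000000000000000000000000000000000000000000000000000000000000000000000000000000000000000000000000000000000000000000000000000000000003fffffffffffffffffffffffffffbeffbdffffffff

-- part: H545/PQ/SylowComm
section
set_option linter.all false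
open scoped Cfsg.Agent.FastGrp

-- part: H545/NoTwoP
section
/-!
# Groups without elements of order `p q`: first lemmas

* `not_commute`: without elements of order `p * q`, non-trivial `p`- and `q`-elements do not commute;
* `comm_of_local_even`: `p` odd, no element of order `2 p`; if a non-trivial `p`-subgroup is normalised by an
  involution then the Sylow `p`-subgroups are abelian.
-/

set_option autoImplicit false

namespace Cfsg.Agent.H545.NoTwoP

universe u

variable {X : Type u} [Group X]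

/-- Without elements of order `p * q`, non-trivial `p`-elements and `q`-elements do not commute. -/
theorem not_commute {p q : ℕ} [hp : Fact p.Prime] [hq : Fact q.Prime] (hpq : p ≠ q)
    (h : ∀ g : X, orderOf g ≠ p * q) {x y : X} {a b : ℕ} (hx : orderOf x = p ^ a)
    (hy : orderOf y = q ^ b) (hx1 : x ≠ 1) (hy1 : y ≠ 1) (hxy : x * y = y * x) : False := by
  have ha : a ≠ 0 := by
    rintro rfl
    rw [pow_zero, orderOf_eq_one_iff] at hx
    exact hx1 hx
  have hb : b ≠ 0 := by
    rintro rfl
    rw [pow_zero, orderOf_eq_one_iff] at hy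
    exact hy1 hy
  have hx' : orderOf (x ^ p ^ (a - 1)) = p := by
    rw [orderOf_pow_of_dvd (pow_ne_zero _ hp.out.ne_zero) (by rw [hx]; exact pow_dvd_pow p (by omega)),
      hx, Nat.pow_div (by omega) hp.out.pos, show a - (a - 1) = 1 by omega, pow_one]
  have hy' : orderOf (y ^ q ^ (b - 1)) = q := by
    rw [orderOf_pow_of_dvd (pow_ne_zero _ hq.out.ne_zero) (by rw [hy]; exact pow_dvd_pow q (by omega)),
      hy, Nat.pow_div (by omega) hq.out.pos, show b - (b - 1) = 1 by omega, pow_one]
  have hc : Commute (x ^ p ^ (a - 1)) (y ^ q ^ (b - 1)) := (show Commute x y from hxy).pow_pow _ _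
  have hcop : Nat.Coprime (orderOf (x ^ p ^ (a - 1))) (orderOf (y ^ q ^ (b - 1))) := by
    rw [hx', hy']
    exact (Nat.coprime_primes hp.out hq.out).mpr hpq
  exact h _ ((hc.orderOf_mul_eq_mul_orderOf_of_coprime hcop).trans (by rw [hx', hy']))

theorem not_commute' {p q : ℕ} [hp : Fact p.Prime] [hq : Fact q.Prime] (hpq : p ≠ q)
    (h : ∀ g : X, orderOf g ≠ p * q) {P Q : Subgroup X} (hP : IsPGroup p P) (hQ : IsPGroup q Q)
    {x y : X} (hx : x ∈ P) (hy : y ∈ Q) (hx1 : x ≠ 1) (hy1 : y ≠ 1) (hxy : x * y = y * x) : False := by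
  obtain ⟨a, ha⟩ := IsPGroup.iff_orderOf.mp hP ⟨x, hx⟩
  obtain ⟨b, hb⟩ := IsPGroup.iff_orderOf.mp hQ ⟨y, hy⟩
  rw [Subgroup.orderOf_mk] at ha hb
  exact not_commute hpq h ha hb hx1 hy1 hxy

/-- An involution without fixed points on a `p`-subgroup that it normalises inverts it. -/
theorem inverts [Finite X] {Y : Subgroup X} {t : X} (ht2 : t * t = 1)
    (htY : ∀ y ∈ Y, t * y * t⁻¹ ∈ Y) (hfix : ∀ y ∈ Y, t * y = y * t → y = 1) :
    (∀ y ∈ Y, t * y * t⁻¹ = y⁻¹) ∧ ∀ y ∈ Y, ∀ z ∈ Y, y * z = z * y := by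
  let φ : Y →* Y :=
    { toFun := fun y => ⟨t * y * t⁻¹, htY y y.2⟩
      map_one' := by apply Subtype.ext; simp
      map_mul' := by
        intro a b
        apply Subtype.ext
        simp only [Subgroup.coe_mul]
        group }
  have hφ : MonoidHom.FixedPointFree φ := by
    intro y hy
    apply Subtype.ext
    refine hfix y y.2 ?_
    have h1 : t * y * t⁻¹ = y := congrArg Subtype.val hy
    rwa [mul_inv_eq_iff_eq_mul] at h1
  have hti : t⁻¹ = t := inv_eq_of_mul_eq_one_left ht2
  have hinv : Function.Involutive φ := by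
    intro y
    apply Subtype.ext
    change t * (t * y * t⁻¹) * t⁻¹ = y
    rw [hti]
    calc t * (t * y * t) * t = (t * t) * y * (t * t) := by group
      _ = y := by rw [ht2]; group
  refine ⟨fun y hy => ?_, fun y hy z hz => ?_⟩
  · have h1 := congrFun (hφ.coe_eq_inv_of_involutive hinv) ⟨y, hy⟩
    exact congrArg Subtype.val h1
  · have h1 := hφ.commute_all_of_involutive hinv ⟨y, hy⟩ ⟨z, hz⟩
    exact congrArg Subtype.val h1

/-- All Sylow `p`-subgroups are abelian if one is. -/
theorem comm_of_sylow [Finite X] {p : ℕ} [Fact p.Prime] (P : Sylow p X)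
    (h : ∀ y ∈ (P : Subgroup X), ∀ z ∈ (P : Subgroup X), y * z = z * y) (Q : Sylow p X) :
    IsMulCommutative (Q : Subgroup X) := by
  obtain ⟨g, hg⟩ := MulAction.exists_smul_eq X P Q
  refine ⟨⟨fun a b => Subtype.ext ?_⟩⟩
  have key : ∀ a ∈ (Q : Subgroup X), g⁻¹ * a * g ∈ (P : Subgroup X) := by
    intro a ha
    rw [← hg, Sylow.coe_subgroup_smul] at ha
    obtain ⟨b, hb, hba⟩ := ha
    have : a = g * b * g⁻¹ := hba.symm
    rw [this]
    have h2 : g⁻¹ * (g * b * g⁻¹) * g = b := by group
    rw [h2]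
    exact hb
  have h1 := h _ (key a a.2) _ (key b b.2)
  change (a : X) * b = b * a
  calc (a : X) * b = g * ((g⁻¹ * a * g) * (g⁻¹ * b * g)) * g⁻¹ := by group
    _ = g * ((g⁻¹ * b * g) * (g⁻¹ * a * g)) * g⁻¹ := by rw [h1]
    _ = b * a := by group

/-- `p` odd, no element of order `2 p`; if a non-trivial `p`-subgroup is normalised by an involution then
the Sylow `p`-subgroups are abelian. -/
theorem comm_of_local_even [Finite X] {p : ℕ} [hp : Fact p.Prime] (hp2 : p ≠ 2)
    (h : ∀ g : X, orderOf g ≠ 2 * p) {Y₀ : Subgroup X} (hY₀ : IsPGroup p Y₀) (hY₀1 : Y₀ ≠ ⊥)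
    {t : X} (ht : orderOf t = 2) (htY₀ : ∀ y ∈ Y₀, t * y * t⁻¹ ∈ Y₀) (Q : Sylow p X) :
    IsMulCommutative (Q : Subgroup X) := by
  classical
  have : Fact (Nat.Prime 2) := ⟨Nat.prime_two⟩
  have ht2 : t * t = 1 := by
    have := pow_orderOf_eq_one t
    rwa [ht, sq] at this
  have ht1 : t ≠ 1 := by
    rintro rfl
    rw [orderOf_one] at ht
    norm_num at ht
  have hti : t⁻¹ = t := inv_eq_of_mul_eq_one_left ht2
  -- a maximal `t`-invariant `p`-subgroup
  let S : Set (Subgroup X) := {Y | IsPGroup p Y ∧ Y ≠ ⊥ ∧ ∀ y ∈ Y, t * y * t⁻¹ ∈ Y}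
  obtain ⟨Y, ⟨hY, hY1, htY⟩, hmax⟩ := (Set.toFinite S).exists_maximal ⟨Y₀, hY₀, hY₀1, htY₀⟩
  have hfix : ∀ Z : Subgroup X, IsPGroup p Z → ∀ y ∈ Z, t * y = y * t → y = 1 := by
    intro Z hZ y hy hty
    by_contra hy1
    obtain ⟨a, ha⟩ := IsPGroup.iff_orderOf.mp hZ ⟨y, hy⟩
    rw [Subgroup.orderOf_mk] at ha
    exact not_commute (p := 2) (q := p) hp2.symm h (a := 1) (by rw [ht, pow_one]) ha ht1 hy1 hty
  obtain ⟨hinvY, hcomY⟩ := inverts ht2 htY (hfix Y hY)
  let C : Subgroup X := Subgroup.centralizer (Y : Set X)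
  have hYC : Y ≤ C := by
    intro y hy
    rw [Subgroup.mem_centralizer_iff]
    intro z hz
    exact hcomY z hz y hy
  -- `C` has odd order
  obtain ⟨y₁, hy₁, hy₁1⟩ : ∃ y ∈ Y, y ≠ 1 := (Subgroup.ne_bot_iff_exists_ne_one.mp hY1).elim
    fun a ha => ⟨a, a.2, fun h => ha (Subtype.ext h)⟩
  have hCodd : ¬ 2 ∣ Nat.card C := by
    intro hdvd
    obtain ⟨s, hs⟩ := exists_prime_orderOf_dvd_card' 2 hdvd
    have hs' : orderOf (s : X) = 2 := by rw [Subgroup.orderOf_coe, hs]
    obtain ⟨a, ha⟩ := IsPGroup.iff_orderOf.mp hY ⟨y₁, hy₁⟩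
    rw [Subgroup.orderOf_mk] at ha
    refine not_commute (p := 2) (q := p) hp2.symm h (a := 1) (by rw [hs', pow_one]) ha ?_ hy₁1 ?_
    · intro h1
      rw [h1, orderOf_one] at hs'
      norm_num at hs'
    · exact (Subgroup.mem_centralizer_iff.mp s.2 y₁ hy₁).symm
  have hNC : ∀ n ∈ Subgroup.normalizer (Y : Set X), ∀ c ∈ C, n * c * n⁻¹ ∈ C := by
    intro n hn c hc
    rw [Subgroup.mem_centralizer_iff]
    intro y hy
    have h1 : n⁻¹ * y * n ∈ Y := by
      have := (Subgroup.mem_normalizer_iff.mp (inv_mem hn) y).mp hy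
      rwa [inv_inv] at this
    have h2 := Subgroup.mem_centralizer_iff.mp hc _ h1
    calc y * (n * c * n⁻¹) = n * ((n⁻¹ * y * n) * c) * n⁻¹ := by group
      _ = n * (c * (n⁻¹ * y * n)) * n⁻¹ := by rw [h2]
      _ = n * c * n⁻¹ * y := by group
  have htN : t ∈ Subgroup.normalizer (Y : Set X) := by
    rw [Subgroup.mem_normalizer_iff]
    intro y
    refine ⟨htY y, fun hy => ?_⟩
    have h1 := htY _ hy
    rw [hti] at h1
    have h2 : t * (t * y * t) * t = y := by
      calc t * (t * y * t) * t = (t * t) * y * (t * t) := by group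
        _ = y := by rw [ht2]; group
    rwa [h2] at h1
  -- `Y` is a Sylow subgroup
  obtain ⟨P, hYP⟩ := hY.exists_le_sylow
  have hYeq : Y = (P : Subgroup X) := by
    by_contra hne
    have hlt : Y < (P : Subgroup X) := lt_of_le_of_ne hYP hne
    -- the normaliser condition
    obtain ⟨x, hxP, hxN, hxY⟩ : ∃ x ∈ (P : Subgroup X), x ∈ Subgroup.normalizer (Y : Set X) ∧ x ∉ Y := by
      have hnil : Group.IsNilpotent (P : Subgroup X) := P.2.isNilpotent
      have h1 : Y.subgroupOf (P : Subgroup X) < ⊤ := by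
        rw [lt_top_iff_ne_top, Ne, Subgroup.subgroupOf_eq_top]
        exact fun h => hne (le_antisymm hYP h)
      have h2 := Group.normalizerCondition_of_isNilpotent (G := (P : Subgroup X)) _ h1
      obtain ⟨x, hx, hxn⟩ := SetLike.exists_of_lt h2
      refine ⟨x, x.2, ?_, fun h => hxn (Subgroup.mem_subgroupOf.mpr h)⟩
      rw [Subgroup.mem_normalizer_iff]
      intro y
      have hx' := Subgroup.mem_normalizer_iff.mp hx
      constructor
      · intro hy
        exact Subgroup.mem_subgroupOf.mp ((hx' ⟨y, hYP hy⟩).mp (Subgroup.mem_subgroupOf.mpr hy))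
      · intro hy
        have hyP : y ∈ (P : Subgroup X) := by
          have h3 : y = (x : X)⁻¹ * ((x : X) * y * (x : X)⁻¹) * x := by group
          rw [h3]
          exact mul_mem (mul_mem (inv_mem x.2) (hYP hy)) x.2
        exact Subgroup.mem_subgroupOf.mp ((hx' ⟨y, hyP⟩).mpr (Subgroup.mem_subgroupOf.mpr hy))
    let D : Subgroup X := C ⊔ Subgroup.zpowers x
    have hCD : C ≤ D := le_sup_left
    have hxD : x ∈ D := (le_sup_right : Subgroup.zpowers x ≤ D) (Subgroup.mem_zpowers x)
    have hDN : D ≤ Subgroup.normalizer (Y : Set X) := by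
      refine sup_le ?_ (by rw [Subgroup.zpowers_le]; exact hxN)
      intro c hc
      rw [Subgroup.mem_normalizer_iff]
      intro y
      constructor
      · intro hy
        have h1 := Subgroup.mem_centralizer_iff.mp hc y hy
        rw [← h1]
        have : y * c * c⁻¹ = y := by group
        rwa [this]
      · intro hy
        have h1 := Subgroup.mem_centralizer_iff.mp hc _ hy
        have h2 : c * y * c⁻¹ = y := by
          have h3 : c * y * c⁻¹ * c = c * (c * y * c⁻¹) := h1
          have h4 : c * y = c * (c * y * c⁻¹) := by rw [← h3]; group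
          exact (mul_left_cancel h4).symm
        rwa [h2] at hy
    have hxnC : x ∈ Subgroup.normalizer (C : Set X) := by
      rw [Subgroup.mem_normalizer_iff]
      intro c
      refine ⟨hNC x hxN c, fun hc => ?_⟩
      have h1 := hNC x⁻¹ (inv_mem hxN) _ hc
      have h2 : x⁻¹ * (x * c * x⁻¹) * x⁻¹⁻¹ = c := by group
      rwa [h2] at h1
    -- `D` has odd order
    have hDodd : ¬ 2 ∣ Nat.card D := by
      have h1 : Nat.card D ∣ Nat.card C * Nat.card (Subgroup.zpowers x) := by
        have h2 : Subgroup.zpowers x ≤ Subgroup.normalizer (C : Set X) := by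
          rw [Subgroup.zpowers_le]; exact hxnC
        have h3 := Cfsg.Agent.OddOrderLocal.PiCoreOf.card_sup_dvd_of_le_normalizer h2
        rwa [sup_comm, mul_comm] at h3
      intro h2
      rcases (Nat.prime_two.dvd_mul).mp (h2.trans h1) with h3 | h3
      · exact hCodd h3
      · obtain ⟨a, ha⟩ := IsPGroup.iff_orderOf.mp P.2 ⟨x, hxP⟩
        rw [Subgroup.orderOf_mk] at ha
        rw [Nat.card_zpowers, ha] at h3
        have := (Nat.prime_dvd_prime_iff_eq Nat.prime_two hp.out).mp (Nat.prime_two.dvd_of_dvd_pow h3)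
        exact hp2 this.symm
    -- `t` normalises `D`
    have htx : t * x * t⁻¹ ∈ D := by
      have h1 : t * x * t⁻¹ * x⁻¹ ∈ C := by
        rw [Subgroup.mem_centralizer_iff]
        intro y hy
        -- `t x t⁻¹ x⁻¹` centralises `y`
        have hyi : ∀ z ∈ Y, t * z * t⁻¹ = z⁻¹ := hinvY
        have hxy : x⁻¹ * y * x ∈ Y := by
          have := (Subgroup.mem_normalizer_iff.mp (inv_mem hxN) y).mp hy
          rwa [inv_inv] at this
        have e1 : t * (x⁻¹ * y * x) * t⁻¹ = (x⁻¹ * y * x)⁻¹ := hyi _ hxy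
        have e2 : t⁻¹ * y * t = y⁻¹ := by
          have := hyi y hy
          rw [hti] at this ⊢
          exact this
        -- conjugation of `y` by the inverse
        have e3 : (t * x * t⁻¹ * x⁻¹)⁻¹ * y * (t * x * t⁻¹ * x⁻¹) = y := by
          calc (t * x * t⁻¹ * x⁻¹)⁻¹ * y * (t * x * t⁻¹ * x⁻¹)
              = x * (t * (x⁻¹ * (t⁻¹ * y * t) * x) * t⁻¹) * x⁻¹ := by group
            _ = x * (t * (x⁻¹ * y⁻¹ * x) * t⁻¹) * x⁻¹ := by rw [e2]
            _ = x * (t * (x⁻¹ * y * x) * t⁻¹)⁻¹ * x⁻¹ := by group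
            _ = y := by rw [e1]; group
        calc y * (t * x * t⁻¹ * x⁻¹) = (t * x * t⁻¹ * x⁻¹) *
              ((t * x * t⁻¹ * x⁻¹)⁻¹ * y * (t * x * t⁻¹ * x⁻¹)) := by group
          _ = (t * x * t⁻¹ * x⁻¹) * y := by rw [e3]
      have h2 : t * x * t⁻¹ = (t * x * t⁻¹ * x⁻¹) * x := by group
      rw [h2]
      exact mul_mem (hCD h1) hxD
    have htD : ∀ d ∈ D, t * d * t⁻¹ ∈ D := by
      have h1 : D ≤ D.comap (MulAut.conj t).toMonoidHom := by
        refine sup_le ?_ ?_
        · intro c hc
          exact hCD (hNC t htN c hc)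
        · rw [Subgroup.zpowers_le]
          exact htx
      exact fun d hd => h1 hd
    have hA2 : IsPGroup 2 (Subgroup.zpowers t) := by
      refine IsPGroup.of_card (n := 1) ?_
      rw [Nat.card_zpowers, ht, pow_one]
    have hzt : ∀ b ∈ Subgroup.zpowers t, b = 1 ∨ b = t := by
      intro b hb
      obtain ⟨m, rfl⟩ := Subgroup.mem_zpowers_iff.mp hb
      rcases Int.even_or_odd' m with ⟨j, rfl | rfl⟩
      · left
        rw [zpow_mul, zpow_two, ht2, one_zpow]
      · right
        rw [zpow_add, zpow_mul, zpow_two, ht2, one_zpow, one_mul, zpow_one]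
    obtain ⟨Z, ⟨T, hT⟩, htZ, hYZ⟩ := Cfsg.Agent.Lib.PGroupCoprimeAction.exists_invariant_sylow_ge
      (A := Subgroup.zpowers t) (H := D) hA2 hDodd (by
        intro b hb u hu
        rcases hzt b hb with rfl | rfl
        · simpa using hu
        · exact htD u hu) (q := p) (R := Y) (hYC.trans hCD) hY (by
        intro b hb u hu
        rcases hzt b hb with rfl | rfl
        · simpa using hu
        · exact htY u hu)
    have hZp : IsPGroup p Z := by
      rw [← hT]
      exact T.2.map _
    have hZY : Z ≤ Y := hmax ⟨hZp, fun h => hY1 (le_bot_iff.mp (hYZ.trans h.le)),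
      fun y hy => htZ t (Subgroup.mem_zpowers t) y hy⟩ hYZ
    have hZeq : Z = Y := le_antisymm hZY hYZ
    -- `Y` is a normal Sylow `p`-subgroup of `D`, so contains `x`
    apply hxY
    have hTn : (T : Subgroup D).Normal := by
      have h1 : (T : Subgroup D) = Y.subgroupOf D := by
        rw [← hZeq, ← hT]
        exact (Subgroup.comap_map_eq_self_of_injective D.subtype_injective _).symm
      rw [h1, Subgroup.normal_subgroupOf_iff_le_normalizer (hYC.trans hCD)]
      exact hDN
    have hxp : IsPGroup p (Subgroup.zpowers (⟨x, hxD⟩ : D)) := by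
      obtain ⟨a, ha⟩ := IsPGroup.iff_orderOf.mp P.2 ⟨x, hxP⟩
      rw [Subgroup.orderOf_mk] at ha
      refine IsPGroup.of_card (n := a) ?_
      rw [Nat.card_zpowers, Subgroup.orderOf_mk, ha]
    obtain ⟨T', hT'⟩ := hxp.exists_le_sylow
    have := Sylow.unique_of_normal T hTn
    have hTT : T' = T := Subsingleton.elim _ _
    have hx1 : (⟨x, hxD⟩ : D) ∈ (T : Subgroup D) := by
      rw [← hTT]
      exact hT' (Subgroup.mem_zpowers _)
    have hx2 : x ∈ Z := by
      rw [← hT]
      exact ⟨_, hx1, rfl⟩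
    rwa [hZeq] at hx2
  refine comm_of_sylow P ?_ Q
  rw [← hYeq]
  exact hcomY

end Cfsg.Agent.H545.NoTwoP
end

-- part: H545/PQ/SylowComm
section
/-!
# Abelian Sylow subgroups from an abelian subgroup of index prime to `p`
-/

set_option autoImplicit false

namespace Cfsg.Agent.H545.PQ

universe u

variable {G : Type u} [Group G]

/-- An abelian subgroup of index prime to `p` makes the Sylow `p`-subgroups abelian. -/
theorem sylow_comm_of_index [Finite G] {p : ℕ} [Fact p.Prime] {P : Subgroup G} (hi : ¬ p ∣ P.index)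
    (hc : ∀ x ∈ P, ∀ y ∈ P, x * y = y * x) (Q : Sylow p G) : IsMulCommutative (Q : Subgroup G) := by
  classical
  obtain ⟨T⟩ : Nonempty (Sylow p P) := inferInstance
  have hcard : Nat.card ((T : Subgroup P).map P.subtype) = p ^ (Nat.card G).factorization p := by
    rw [Subgroup.card_map_of_injective P.subtype_injective, T.card_eq_multiplicity]
    congr 1
    rw [← P.card_mul_index, Nat.factorization_mul (Nat.card_pos).ne' (Subgroup.index_ne_zero_of_finite),
      Finsupp.add_apply, Nat.factorization_eq_zero_of_not_dvd hi, add_zero]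
  refine NoTwoP.comm_of_sylow (Sylow.ofCard _ hcard) ?_ Q
  rw [Sylow.coe_ofCard]
  intro y hy z hz
  exact hc y (Subgroup.map_subtype_le _ hy) z (Subgroup.map_subtype_le _ hz)

end Cfsg.Agent.H545.PQ
end
end

-- part: H545/PQ/RowTool
section
set_option linter.all false
open scoped Cfsg.Agent.FastGrp

/-!
# Sylow subgroups of an almost simple group and pairs of primes
-/

set_option autoImplicit false

namespace Cfsg.Agent.H545.PQ

open Subgroup

universe u

variable {X : Type u} [Group X]

/-- the index of a normal subgroup with trivial centraliser divides the order of its outer automorphism group -/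
theorem index_dvd_out [Finite X] (N : Subgroup X) [hN : N.Normal] (hc : centralizer (N : Set X) = ⊥) :
    N.index ∣ (MulAut.conj : N →* MulAut N).range.index := by
  have h1 : ((MulAut.conj : N →* MulAut N).range).comap (MulAut.conjNormal (H := N)) = N := by
    ext x
    rw [mem_comap, MonoidHom.mem_range]
    constructor
    · rintro ⟨n, hn⟩
      have h2 : (n : X)⁻¹ * x ∈ centralizer (N : Set X) := by
        rw [mem_centralizer_iff]
        intro m hm
        have h3 := congrArg (fun f : MulAut N => ((f ⟨m, hm⟩ : N) : X)) hn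
        simp only [MulAut.conj_apply, MulAut.conjNormal_apply, coe_mul, coe_inv] at h3
        rw [eq_mul_inv_iff_mul_eq] at h3
        calc m * ((n : X)⁻¹ * x) = (n : X)⁻¹ * ((n : X) * m * (n : X)⁻¹ * x) := by group
          _ = (n : X)⁻¹ * x * m := by rw [h3]; group
      rw [hc, mem_bot] at h2
      rw [inv_mul_eq_one] at h2
      rw [← h2]
      exact n.2
    · intro hx
      refine ⟨⟨x, hx⟩, ?_⟩
      ext m
      simp
  have hnr : ((MulAut.conj : N →* MulAut N).range).Normal := by
    constructor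
    rintro _ ⟨n, rfl⟩ f
    refine ⟨f n, ?_⟩
    ext m
    simp [MulAut.mul_apply]
  conv_lhs => rw [← h1]
  rw [index_comap]
  exact relIndex_dvd_index_of_normal _ _

theorem dvd_two_of_le {a b : ℕ} (h : a ∣ b) (hb : b ≤ 2) (h0 : b ≠ 0) : a ∣ 2 := by
  have h1 := h
  interval_cases b
  · exact absurd rfl h0
  · exact h.trans (by norm_num)
  · exact h

/-- Sylow subgroups of order dividing `p²` are abelian. -/
theorem comm_of_not_cube [Finite X] {p : ℕ} [hp : Fact p.Prime] (h : ¬ p ^ 3 ∣ Nat.card X) (P : Sylow p X) :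
    IsMulCommutative (P : Subgroup X) := by
  have h1 : Nat.card P = p ^ (Nat.card X).factorization p := P.card_eq_multiplicity
  have h2 : (Nat.card X).factorization p < 3 := by
    by_contra hc
    exact h ((Nat.pow_dvd_pow p (not_lt.1 hc)).trans (Nat.ordProj_dvd _ _))
  generalize (Nat.card X).factorization p = k at h1 h2
  interval_cases k
  · have : Subsingleton P := (Nat.card_eq_one_iff_unique.1 (by simpa using h1)).1
    exact ⟨⟨fun a b => Subsingleton.elim _ _⟩⟩
  · have : IsCyclic P := isCyclic_of_prime_card (p := p) (by simpa using h1)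
    infer_instance
  · exact IsPGroup.isMulCommutative_of_card_eq_prime_sq (G := P) h1

/-- The check of the cubes dividing a number. -/
def Chk (n : ℕ) (ps bad : List ℕ) : Bool := ps.all fun q => bad.contains q || !(n % q ^ 3 == 0)

theorem not_cube {n : ℕ} (ps : List ℕ) {bad : List ℕ} (hps : ∀ q ∈ ps, q.Prime) (hn : n ∣ ps.prod ^ 50)
    (hchk : Chk n ps bad = true) {p : ℕ} (hp : p.Prime) (hb : p ∉ bad) : ¬ p ^ 3 ∣ n := by
  intro h
  have h1 : p ∣ ps.prod := hp.dvd_of_dvd_pow (((dvd_pow_self p (by norm_num)).trans h).trans hn)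
  obtain ⟨q, hq, hpq⟩ := (hp.prime.dvd_prod_iff).1 h1
  have h2 : p = q := (Nat.prime_dvd_prime_iff_eq hp (hps q hq)).1 hpq
  subst h2
  have h3 := (List.all_eq_true.1 hchk) p hq
  simp only [Bool.or_eq_true, List.contains_iff_mem, Bool.not_eq_true', beq_eq_false_iff_ne] at h3
  rcases h3 with h3 | h3
  · exact hb h3
  · exact h3 (Nat.mod_eq_zero_of_dvd h)

/-- The conclusion for `X`: abelian Sylow subgroups for one of the primes. -/
def Concl (p q : ℕ) (X : Type u) [Group X] : Prop :=
  (∀ P : Sylow p X, IsMulCommutative (P : Subgroup X)) ∨ (∀ Q : Sylow q X, IsMulCommutative (Q : Subgroup X))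

theorem Concl.symm {p q : ℕ} (h : Concl p q X) : Concl q p X := Or.symm h

/-- The assembly of a row. -/
theorem concl_or {bad : List ℕ} {E : ℕ → ℕ → Prop}
    (hcomm : ∀ p : ℕ, p.Prime → p ∉ bad → ∀ P : Sylow p X, IsMulCommutative (P : Subgroup X))
    (hpair : ∀ p ∈ bad, ∀ q ∈ bad, p < q → Pair p q X ∨ E p q) {p q : ℕ} (hp : p.Prime) (hq : q.Prime)
    (hpq : p ≠ q) (hno : ∀ x : X, orderOf x ≠ p * q) : Concl p q X ∨ E p q ∨ E q p := by
  by_cases h1 : p ∈ bad
  · by_cases h2 : q ∈ bad
    · rcases lt_or_gt_of_ne hpq with h | h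
      · rcases hpair p h1 q h2 h with h3 | h3
        · exact (h3.not ((Nat.coprime_primes hp hq).2 hpq) hno).elim
        · exact Or.inr (Or.inl h3)
      · rcases hpair q h2 p h1 h with h3 | h3
        · exact (h3.symm.not ((Nat.coprime_primes hp hq).2 hpq) hno).elim
        · exact Or.inr (Or.inr h3)
    · exact Or.inl (Or.inr (hcomm q hq h2))
  · exact Or.inl (Or.inl (hcomm p hp h1))

/-- Primes outside `bad`, from the order of a normal subgroup of index at most two. -/
theorem comm_of_order [Finite X] {N : Subgroup X} (hi : N.index ∣ 2) {n : ℕ} (hn : Nat.card N = n) {bad : List ℕ}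
    (h2 : 2 ∈ bad) (h3 : ∀ p : ℕ, p.Prime → p ∉ bad → ¬ p ^ 3 ∣ n) :
    ∀ p : ℕ, p.Prime → p ∉ bad → ∀ P : Sylow p X, IsMulCommutative (P : Subgroup X) := by
  intro p hp hb P
  have : Fact p.Prime := ⟨hp⟩
  refine comm_of_not_cube (fun hd => h3 p hp hb ?_) P
  rw [← N.card_mul_index, hn] at hd
  refine Nat.Coprime.dvd_of_dvd_mul_right ?_ hd
  refine Nat.Coprime.pow_left 3 ((Nat.Prime.coprime_iff_not_dvd hp).2 fun h => ?_)
  have h4 := (Nat.prime_dvd_prime_iff_eq hp Nat.prime_two).1 (h.trans hi)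
  exact hb (h4 ▸ h2)

end Cfsg.Agent.H545.PQ
end
end
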