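import Cfsg.Agent.H545.LT.Defs_m3
import Cfsg.Agent.H545.PQ.RowTool
import Cfsg.Agent.CpQuot.ONThree
import Cfsg.Agent.UGT.C.BalONCard
import Cfsg.Agent.S1699
import Cfsg.Agent.Prune
set_option linter.all false
prune_inst 0x7f00000000000000000000000000000000000000000000000000000000000000000000000000000000000000000000000000000000000000000000000000000000000000000000000000000000000000003fffffffffffffffffffffffffffbeffbdffffffff
open scoped Cfsg.Agent.FastGrp

/-!
# The O'Nan group: an element of order 14, abelian Sylow 3-subgroups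
-/

set_option autoImplicit false

namespace Cfsg.Agent.H545.PQ.ONan

open Cfsg Cfsg.Spor Cfsg.Agent.H545.PQ
open Cfsg.Agent.KFacts.MulSpor.ON (w)

theorem hON : Cfsg.IsON ON := Cfsg.Agent.S1699.result

theorem finite : Finite ON := Cfsg.Agent.ONType.RepCent.finite_of_isON hON

theorem card : Nat.card ON = 460815505920 := hON.2

theorem order_f : orderOf (Cfsg.Agent.SporadicB.ON45Word.on .f) = 2 := by
  have := finite
  have h2 : Cfsg.Agent.KFacts.MulSpor.ON.w [.f] * Cfsg.Agent.KFacts.MulSpor.ON.w [.f] = 1 := by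
    rw [← Cfsg.Agent.KFacts.MulSpor.ON.w_append]
    exact Cfsg.Agent.KFacts.MulSpor.ON.rel hON.1 _ (by decide +kernel)
  rw [Cfsg.Agent.KFacts.MulSpor.ON.w_one] at h2
  refine orderOf_eq_prime (by rw [pow_two]; exact h2) ?_
  intro h
  have h1 := UGT.C.BalONCard.card_centralizer hON
  rw [h] at h1
  have h3 : Subgroup.centralizer ({1} : Set ON) = ⊤ := by
    rw [eq_top_iff]
    intro x _
    rw [Subgroup.mem_centralizer_singleton_iff]
    rw [mul_one, one_mul]
  rw [h3, Subgroup.card_top, card] at h1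
  norm_num at h1

theorem pair_two_seven : Pair 2 7 ON := by
  have := finite
  refine pair_of_dvd order_f (by norm_num) ?_
  rw [UGT.C.BalONCard.card_centralizer hON]
  norm_num

/-- the subgroup `P` is abelian -/
theorem comm_P : ∀ x ∈ CpQuot.ONThree.P, ∀ y ∈ CpQuot.ONThree.P, x * y = y * x := by
  have hs := hON.1
  have h12 := CpQuot.ONThree.x12 hs
  have a1 := CpQuot.ONThree.x1s hs
  have a2 := CpQuot.ONThree.x2s hs
  have b1 := CpQuot.ONThree.x1t1 hs
  have b2 := CpQuot.ONThree.x2t1 hs
  have c1 := CpQuot.ONThree.x1t2 hs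
  have c2 := CpQuot.ONThree.x2t2 hs
  have d := CpQuot.ONThree.yy hs
  have key := Subgroup.isMulCommutative_closure (k := ({w CpQuot.ONThree.x₁, w CpQuot.ONThree.x₂,
    w CpQuot.ONThree.s * w CpQuot.ONThree.t₁, w CpQuot.ONThree.s * w CpQuot.ONThree.t₂} : Set ON)) (by
      have e1 : w CpQuot.ONThree.x₁ * (w CpQuot.ONThree.s * w CpQuot.ONThree.t₁) =
          (w CpQuot.ONThree.s * w CpQuot.ONThree.t₁) * w CpQuot.ONThree.x₁ := by
        rw [← mul_assoc, a1, mul_assoc, b1, mul_assoc]
      have e2 : w CpQuot.ONThree.x₁ * (w CpQuot.ONThree.s * w CpQuot.ONThree.t₂) =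
          (w CpQuot.ONThree.s * w CpQuot.ONThree.t₂) * w CpQuot.ONThree.x₁ := by
        rw [← mul_assoc, a1, mul_assoc, c1, mul_assoc]
      have e3 : w CpQuot.ONThree.x₂ * (w CpQuot.ONThree.s * w CpQuot.ONThree.t₁) =
          (w CpQuot.ONThree.s * w CpQuot.ONThree.t₁) * w CpQuot.ONThree.x₂ := by
        rw [← mul_assoc, a2, mul_assoc, b2, mul_assoc]
      have e4 : w CpQuot.ONThree.x₂ * (w CpQuot.ONThree.s * w CpQuot.ONThree.t₂) =
          (w CpQuot.ONThree.s * w CpQuot.ONThree.t₂) * w CpQuot.ONThree.x₂ := by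
        rw [← mul_assoc, a2, mul_assoc, c2, mul_assoc]
      intro x hx y hy
      simp only [Set.mem_insert_iff, Set.mem_singleton_iff] at hx hy
      rcases hx with rfl | rfl | rfl | rfl <;> rcases hy with rfl | rfl | rfl | rfl <;>
        first | rfl | assumption | (symm; assumption))
  intro x hx y hy
  have h1 := key.1.comm ⟨x, hx⟩ ⟨y, hy⟩
  exact congrArg Subtype.val h1

/-- the Sylow 3-subgroups are abelian -/
theorem three_abelian [Fact (Nat.Prime 3)] (P : Sylow 3 ON) : IsMulCommutative (P : Subgroup ON) := by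
  have := finite
  exact sylow_comm_of_index (CpQuot.ONThree.not_dvd_index hON) comm_P P

end Cfsg.Agent.H545.PQ.ONan
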