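import Cfsg.Agent.H545.LT.Defs_m3
import Cfsg.Agent.KFacts.J4.Base
import Cfsg.Agent.SporadicA.MathieuRecog
import Cfsg.Agent.OddOrderLocal.PiCore
import Cfsg.Agent.Prune
set_option linter.all false
prune_inst 0x7f00000000000000000000000000000000000000000000000000000000000000000000000000000000000000000000000000000000000000000000000000000000000000000000000000000000000000003fffffffffffffffffffffffffffbeffbdffffffff
open scoped Cfsg.Agent.FastGrp

/-!
# The Janko group `J₄` has elements of orders 6, 22, 33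
-/

set_option autoImplicit false

namespace Cfsg.Agent.H545.PQ.JFour

open Cfsg Cfsg.Spor Cfsg.Agent.H545.PQ Cfsg.Agent.J4Type

variable {K : Type*} [Group K]

theorem dvd [Finite K] {t : K} {Q N M : Subgroup (Subgroup.centralizer ({t} : Set K))} (H : Hyp t Q N M) {p : ℕ}
    (hd : p ∣ Nat.card Cfsg.Spor.M22) : p ∣ Nat.card (Subgroup.centralizer ({t} : Set K)) := by
  obtain ⟨π, hπ, -⟩ := H.pi
  exact (hd.trans (Subgroup.card_dvd_of_surjective π hπ)).trans (Subgroup.card_subgroup_dvd_card M)

theorem card_m22 : Nat.card Cfsg.Spor.M22 = 443520 := Cfsg.Agent.SporadicA.MathieuRecog.card_M22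

theorem pairs (h : Cfsg.Spor.IsoJ4 K) : Pair 2 3 K ∧ Pair 2 11 K ∧ Pair 3 11 K := by
  have hfin : Finite K := (Cfsg.Agent.KFacts.J4.Base.exists_full h).1
  obtain ⟨t, Q, N, M, H⟩ := Cfsg.Agent.KFacts.J4.Transport.exists_hyp_of_iso h
  have hQn := H.Qn
  have hNn := H.Nn
  have h11 : 11 ∣ Nat.card (Subgroup.centralizer ({t} : Set K)) := dvd H (by rw [card_m22]; norm_num)
  refine ⟨pair_of_dvd H.ht (by norm_num) (dvd H (by rw [card_m22]; norm_num)), pair_of_dvd H.ht (by norm_num) h11, ?_⟩
  have h1 : Pair 3 11 (Subgroup.centralizer ({t} : Set K) ⧸ Q) := by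
    refine pair_of_normal (N := N.map (QuotientGroup.mk' Q)) (by norm_num) (by norm_num) (by norm_num)
      (hNn.map _ (QuotientGroup.mk'_surjective Q)) ?_ ?_
    · have h2 := OddOrderLocal.PiCore.card_comap_mk' Q (N.map (QuotientGroup.mk' Q))
      rw [Subgroup.comap_map_eq, QuotientGroup.ker_mk', sup_eq_left.mpr H.QN, H.card_N, H.card_Q] at h2
      have h3 : 2 ^ 13 * 3 = 2 ^ 13 * Nat.card (N.map (QuotientGroup.mk' Q)) := by rw [← h2]; norm_num
      exact (Nat.eq_of_mul_eq_mul_left (by norm_num) h3).symm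
    · have h3 := Subgroup.card_eq_card_quotient_mul_card_subgroup Q
      rw [h3, H.card_Q] at h11
      rcases (Nat.Prime.dvd_mul (by norm_num)).mp h11 with h | h
      · exact h
      · exact absurd (Nat.Prime.dvd_of_dvd_pow (by norm_num) h) (by norm_num)
  exact (h1.of_surjective (QuotientGroup.mk' Q) (QuotientGroup.mk'_surjective Q) (by norm_num) (by norm_num)
    (by norm_num)).sub

end Cfsg.Agent.H545.PQ.JFour
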