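import Cfsg.Agent.H545.LT.Defs_m3
import Cfsg.Agent.CpAutLy.Row
import Cfsg.Agent.S0398
import Cfsg.Agent.TypeM.FactsMcL
import Cfsg.Agent.RuLat.Main
import Cfsg.Agent.Prune
set_option linter.all false

section
prune_inst 0x7f00000000000000000000000000000000000000000000000000000000000000000000000000000000000000000000000000000000000000000000000000000000000000000000000000000000000000003fffffffffffffffffffffffffffbeffbdffffffff

-- part: H545/PQ/Conway
section
set_option linter.all false
open scoped Cfsg.Agent.FastGrp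

/-!
# The McLaughlin group and the Conway groups have elements of orders 6, 10, 15
-/

set_option autoImplicit false

namespace Cfsg.Agent.H545.PQ.Conway

open Cfsg Cfsg.Spor Cfsg.Agent.H545.PQ

/-- commuting elements of orders 2 and 3, 2 and 5, 3 and 5 -/
def Three (G : Type*) [Group G] : Prop := Pair 2 3 G ∧ Pair 2 5 G ∧ Pair 3 5 G

theorem mcl : Three Cfsg.Spor.McL := by
  obtain ⟨z, u, f, hz, hu, hf, hzu, hzf, huf, -⟩ := CpAutLy.McLElt.exists_data ⟨MulEquiv.refl _⟩
  exact ⟨⟨u, z, hu, hz, hzu.symm⟩, ⟨u, f, hu, hf, huf⟩, ⟨z, f, hz, hf, hzf⟩⟩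

theorem mcl_le_co3 : Cfsg.Spor.McL ≤ Cfsg.Spor.Co3 := inf_le_left

theorem mcl_le_co2 : Cfsg.Spor.McL ≤ Cfsg.Spor.Co2 :=
  le_inf (inf_le_left.trans inf_le_left) inf_le_right

theorem mcl_le_co0 : Cfsg.Spor.McL ≤ Cfsg.Co0 := inf_le_left.trans inf_le_left

theorem co3 : Three Cfsg.Spor.Co3 :=
  ⟨mcl.1.map _ (Subgroup.inclusion_injective mcl_le_co3), mcl.2.1.map _ (Subgroup.inclusion_injective mcl_le_co3),
    mcl.2.2.map _ (Subgroup.inclusion_injective mcl_le_co3)⟩

theorem co2 : Three Cfsg.Spor.Co2 :=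
  ⟨mcl.1.map _ (Subgroup.inclusion_injective mcl_le_co2), mcl.2.1.map _ (Subgroup.inclusion_injective mcl_le_co2),
    mcl.2.2.map _ (Subgroup.inclusion_injective mcl_le_co2)⟩

/-- the map from `McL` to `Co₁` -/
noncomputable def toCo1 : Cfsg.Spor.McL →* Cfsg.Spor.Co1 :=
  (QuotientGroup.mk' (Subgroup.center Cfsg.Co0)).comp (Subgroup.inclusion mcl_le_co0)

theorem toCo1_injective : Function.Injective toCo1 := by
  obtain ⟨hfin, hs, hc, -⟩ := TypeM.FactsMcL.exists_mt_mcl
  rw [← MonoidHom.ker_eq_bot_iff]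
  rcases hs.eq_bot_or_eq_top_of_normal toCo1.ker inferInstance with h | h
  · exact h
  · exfalso
    have hf : Finite (Subgroup.center Cfsg.Co0) := Nat.finite_of_card_ne_zero (by rw [S0398.result]; norm_num)
    have h1 : ∀ x : Cfsg.Spor.McL, Subgroup.inclusion mcl_le_co0 x ∈ Subgroup.center Cfsg.Co0 := by
      intro x
      have h2 : x ∈ toCo1.ker := by rw [h]; exact Subgroup.mem_top x
      rw [MonoidHom.mem_ker] at h2
      exact (QuotientGroup.eq_one_iff _).mp h2
    have h2 := Nat.card_le_card_of_injective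
      (fun x : Cfsg.Spor.McL => (⟨Subgroup.inclusion mcl_le_co0 x, h1 x⟩ : Subgroup.center Cfsg.Co0)) (by
        intro x y hxy
        exact Subgroup.inclusion_injective mcl_le_co0 (congrArg Subtype.val hxy))
    rw [S0398.result, hc] at h2
    norm_num at h2

theorem co1 : Three Cfsg.Spor.Co1 :=
  ⟨mcl.1.map _ toCo1_injective, mcl.2.1.map _ toCo1_injective, mcl.2.2.map _ toCo1_injective⟩

end Cfsg.Agent.H545.PQ.Conway
end

-- part: H545/PQ/Rudvalis
section
set_option linter.all false
open scoped Cfsg.Agent.FastGrp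

/-!
# The Rudvalis group has elements of orders 6, 10, 15

The words were found by computer; they are checked on one point of the permutation representation of degree 4060.
-/

set_option autoImplicit false
set_option maxRecDepth 100000

namespace Cfsg.Agent.H545.PQ.Rudvalis

open Cfsg Cfsg.Agent.H545.PQ Cfsg.Agent.Lib.BitNet Cfsg.Agent.SporadicB.RuOrder Cfsg.Agent.SporadicB.RuData

/-- Action of a word of networks on a point. -/
def fw (w : List (List (ℕ × ℕ))) (i : ℕ) : ℕ := w.foldr app i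

theorem exists_el (w : List (List (ℕ × ℕ))) (hw : ∀ g ∈ w, g ∈ [net0, net1, net2, net3, net4, net5]) :
    ∃ g : H, ∀ i : Fin 4060, (((g : Equiv.Perm (Fin 4060)) i : Fin 4060) : ℕ) = fw w i := by
  induction w with
  | nil => exact ⟨1, fun i => rfl⟩
  | cons a w ih =>
    obtain ⟨g, hg⟩ := ih fun g hg => hw g (List.mem_cons_of_mem _ hg)
    obtain ⟨ha, ha'⟩ := gens0 a (hw a List.mem_cons_self)
    refine ⟨⟨perm ha, ha'⟩ * g, fun i => ?_⟩
    rw [Subgroup.coe_mul, Equiv.Perm.mul_apply, perm_apply, hg]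
    rfl

theorem pow_apply {g : H} {w : List (List (ℕ × ℕ))}
    (hg : ∀ i : Fin 4060, (((g : Equiv.Perm (Fin 4060)) i : Fin 4060) : ℕ) = fw w i) (n : ℕ) (i : Fin 4060) :
    (((g : Equiv.Perm (Fin 4060)) ^ n) i : ℕ) = (fw w)^[n] i := by
  induction n with
  | zero => rfl
  | succ n ih => rw [pow_succ', Equiv.Perm.mul_apply, hg, ih, Function.iterate_succ_apply']

instance : Finite H := Subtype.finite

theorem pair_of_word {p q : ℕ} (hp : p.Prime) (hq : q.Prime) (w : List (List (ℕ × ℕ)))
    (hw : ∀ g ∈ w, g ∈ [net0, net1, net2, net3, net4, net5]) (i : Fin 4060)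
    (h : (Nat.beq ((fw w)^[p * q] i) i && (!Nat.beq ((fw w)^[p] i) i && !Nat.beq ((fw w)^[q] i) i)) = true) :
    Pair p q H := by
  simp only [Bool.and_eq_true, Bool.not_eq_true'] at h
  obtain ⟨h1, h2, h3⟩ := h
  obtain ⟨g, hg⟩ := exists_el w hw
  refine pair_of_period H.subtype g hp hq i ?_ ?_ ?_
  · apply Fin.ext
    rw [Subgroup.coe_subtype, SubgroupClass.coe_pow, pow_apply hg]
    exact Nat.eq_of_beq_eq_true h1
  · intro h
    have := congrArg Fin.val h
    rw [Subgroup.coe_subtype, SubgroupClass.coe_pow, pow_apply hg] at this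
    exact Nat.ne_of_beq_eq_false h2 this
  · intro h
    have := congrArg Fin.val h
    rw [Subgroup.coe_subtype, SubgroupClass.coe_pow, pow_apply hg] at this
    exact Nat.ne_of_beq_eq_false h3 this

theorem pairs_H : Conway.Three H :=
  ⟨pair_of_word (by norm_num) (by norm_num) [net0, net3, net0, net3] (by simp) ⟨1, by norm_num⟩ (by decide +kernel),
   pair_of_word (by norm_num) (by norm_num) [net1, net5, net1, net5] (by simp) ⟨0, by norm_num⟩ (by decide +kernel),
   pair_of_word (by norm_num) (by norm_num) [net3, net5] (by simp) ⟨0, by norm_num⟩ (by decide +kernel)⟩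

theorem pairs {X : Type*} [Group X] (h : Spor.IsoRu X) : Conway.Three X := by
  obtain ⟨e⟩ := h
  exact ⟨pairs_H.1.equiv (e.trans RuLat.Main.equiv), pairs_H.2.1.equiv (e.trans RuLat.Main.equiv),
    pairs_H.2.2.equiv (e.trans RuLat.Main.equiv)⟩

end Cfsg.Agent.H545.PQ.Rudvalis
end
end
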